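import Cfsg.Agent.Lib.ToddCox.Glue
set_option autoImplicit false
set_option maxRecDepth 100000
namespace Cfsg.Agent.Lib.ToddCox.M11X
def E_0 : ℕ := 0x1000000000000040000000000000c0000000000003000000000000080000000000002000000000000fc00000c00000ff000000000001fc000000000003f000001000000fc000014000017f000000000001fc000010000013f000001000003fc000004000007f000003000004fc00000c00000ff000004000010fc000014000017f00001000001008000014000014200001000000400000040000040000000400000408000004000004200000400000cfc000010000013f00000c0000000400000000000010000000000011000000c00000c4000001000004fc00001c00001ff0000040000010400001400001410000010000030400000c00000c1000003000003000000140000140000003000002fc000000000003f000002000001fc00002800002bf000001000003fc000024000027f000003000006fc000014000017f0000060000061000000800000840000060000060000000c00000c0000006000006fc000034000037f0000060000050c0000040000043000005000005040000280000281000005000008fc000014000017f00000800000408000028000028200000400000a04000020000020100000a00000d0000000c00000c000000d00000dfc00003800003bf00000d0000050000002400002400000050000090800000800000820000090000090400000c00000c1000009000009fc00002c00002ff00000900000310000028000028400000300000b0400000c00000c100000b00000ffc00002c00002ff00000f0000100000003000003000000100000030c00004000004030000030000030400003c00003c10000030000030000003800003800000030000021000003400003440000020000020c00003000003030000020000020800002c00002c20000020000020000002800002800000020000011000002400002440000010000010c00002000002030000010000010800001c00001c20000010000010400001800001810000010000001000001400001440000000000000c00001000001030000000000000800000c00000c2000000000000040000080000081000000000000000000040000040000000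
end Cfsg.Agent.Lib.ToddCox.M11X
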