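import Cfsg.Agent.Lib.ToddCox.M11X.Data
set_option autoImplicit false
set_option maxRecDepth 100000
namespace Cfsg.Agent.Lib.ToddCox.M11X
theorem wordsGood : allBelow (wordsOK W (relR Rb inv) inv sp) nW 5 = true := by decide +kernel
theorem d0 : allBits (fun k => bif Nat.blt k 16 then chkDef Eo inv k else true) 13 0 = true := by decide +kernel
def L0 : List ℕ := [nat_lit 0x7800009a00003d00002880000280000b0000020000004000014c00001800000500000b000012c00000e0000140000250000008000004000049000013000003800006e000048000006800004c00009200003a000001000011c00005600000200002380000b8000010000042000022800002000002400000b00002280000ec00002200004000002280000bc000020000041000002000000400001600004100001500000b400002600003a00000780000fc00003000000e00001f80000cc00001000000a000000000000c00002600003a00001780000ac00006400000d00001c000003800001800003800001a0000008000068000026000002000001c00006e00002600001500000b8000016000006000000800003c00006800000a000009000006400006600002a000016800006400006600002a000008000003c00001200003100000d000002000003000002c000016800000800000a000027000013000001000000a00001b000003800002000000a00000400000180000b000002000001100001680000b000000c00002900000a000001400005200002500000100000400000000000050000020000024000010000005000012000005000002a000004000002000001400004800001400000c800006000002a000014000009800000c00004400001c000001000007000003e00002100000b000005400000200001e000002000000c00002e000000]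
theorem s0 : chkChunks Eo inv W isH 32 L0 16 = true := by decide +kernel
theorem c0 : Covered Eo inv W isH 16 48 := covered_of_chunks 32 L0 16 48 rfl s0
theorem s1 : chkStream Eo inv W isH 11 48 0x35000000000001000006900000400000380000d200003d00003580000600000da00000400000280001a80000c8000016000032000013c0000ca000051000034000005c00000e00006600001e00000500000c800006200000b000007c0000c200003d00000a00001740000c200004c000008000017c00001000000900002f000017c00009800005400002d000016c0000a2000015 = true := by decide +kernel
theorem c1 : Covered Eo inv W isH 48 59 := covered_of_stream 11 48 _ s1
theorem l0 : chkPoints Eo cF (2 * nEv) N ys 1 0 0xe600000000003880000000000de00000000002b80000000000ea000000 = true := by decide +kernel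
theorem k0 : LinksOK Eo cF (2 * nEv) N ys 0 1 := linksOK_of_points 1 0 _ l0
end Cfsg.Agent.Lib.ToddCox.M11X
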